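import Cfsg.Agent.Lib.Comp.Fast

set_option maxRecDepth 100000
set_option Elab.async false

namespace Cfsg.Lib.Comp.McX

universe u

def iv : ℕ → ℕ := (fun x => look (nat_lit 0xffef7cefae78df6d74cf2c70beeb6caeaa689e69648e28607de75c6da6585d65544d245038f30d28b2091c61440c2040) 6 x)

noncomputable def R : List (List ℕ × ℕ) := (apd [([1],1),
 ([2],1),
 ([3],1),
 ([4],1),
 ([5],1),
 ([6],1),
 ([7],1),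
 ([1,2],1),
 ([1,3],1),
 ([1,4],1),
 ([1,5],1),
 ([1,6],1),
 ([1,7],1),
 ([2,3],1),
 ([2,4],1),
 ([2,5],1),
 ([2,6],1),
 ([2,7,2,7,1],0),
 ([3,4],1),
 ([3,5,3,5,1],0),
 ([3,6,3,6,2],0),
 ([3,7,3,7,1],0),
 ([4,5,4,5,2,1],0),
 ([4,6,4,6,1],0),
 ([4,7,4,7,3,2,1],0),
 ([5,6],1),
 ([5,7],1),
 ([6,7,6,7,5],0),
 ([8],2),
 ([8,1,9,1],0),
 ([8,2,9,2,3],0),
 ([8,3,9,2],0),
 ([8,4,9,4],0),
 ([8,5,9,7],0),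
 ([8,7,9,5,7],0),
 ([6,8],1),
 ([12],2),
 ([12,1,13,1],0),
 ([12,2,13,5],0),
 ([12,3,13,5,7],0)]
 (apd [([12,5,13,1,2,5],0),
 ([12,6,13,6],0),
 ([12,7,13,2,7,3],0),
 ([4,12],1),
 ([8,12,9,13],0),
 ([14],2),
 ([7,14],1),
 ([14,1,15,1],0),
 ([14,2,15,2],0),
 ([14,3,15,1,4],0),
 ([14,4,15,2,3,4],0),
 ([14,5,15,6],0),
 ([14,6,15,5,6],0),
 ([14,8],2),
 ([4,14,13],2),
 ([10],2),
 ([7,10],1),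
 ([10,1,11,2],0),
 ([10,2,11,1,2],0),
 ([10,3,11,4],0),
 ([10,4,11,3,4],0),
 ([10,5,11,5,6],0),
 ([10,6,11,5],0),
 ([14,10,15,11],0),
 ([8,11],4),
 ([8,10],7),
 ([12,11],7),
 ([12,10],4),
 ([8,10],3),
 ([8,10,15],3),
 ([8,11,7],3),
 ([8,11,5],3),
 ([8,7,10],3),
 ([8,5,11],3),
 ([8,6,10],3),
 ([8,6,11],3),
 ([8,14,7,10],2),
 ([8,15,5,10],2),
 ([8,10,8,6],2),
 ([8,10,9,7],2)]
 (apd [([8,10,15,6],2),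
 ([8,10,7,10],2),
 ([8,10,5,15],2),
 ([8,10,6,11],2),
 ([8,11,8,6],2),
 ([8,11,14,7],2),
 ([8,11,14,6],2),
 ([8,11,7,15],2),
 ([8,11,7,11],2),
 ([8,11,5,10],1),
 ([8,7,10,15],2),
 ([8,5,9,10],1),
 ([8,5,11,14],2),
 ([8,10,8,11,5],1),
 ([8,10,8,5,6],1),
 ([8,10,8,6,11],1),
 ([8,10,8,6,5],1),
 ([8,10,9,10,14],1),
 ([8,10,9,11,7],1),
 ([8,10,9,7,10],1),
 ([8,10,9,7,5],1),
 ([8,10,9,5,7],1),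
 ([8,10,7,8,6],1),
 ([8,10,7,10,6],1),
 ([8,10,7,5,10],1),
 ([8,10,5,9,10],1),
 ([8,10,5,9,5],1),
 ([8,10,5,11,7],1),
 ([8,10,5,11,5],1),
 ([8,10,5,7,10],1),
 ([8,10,5,6,11],1),
 ([8,10,6,9,11],1),
 ([8,10,6,9,5],1),
 ([8,10,6,5,11],1),
 ([8,11,8,7,6],1),
 ([8,11,7,11,6],1),
 ([8,11,5,9,10],1),
 ([8,11,5,9,5],1),
 ([8,11,6,10,7],1),
 ([8,11,6,10,5],1)]
 (apd [([8,11,6,7,11],1),
 ([8,7,9,10,5],1),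
 ([8,7,9,10,6],1),
 ([8,7,9,11,5],1),
 ([8,7,11,8,6],1),
 ([8,7,11,5,10],1),
 ([8,5,9,11,6],1),
 ([8,5,10,5,11],1),
 ([8,5,11,6,10],1),
 ([12,10,7],3),
 ([12,10,3],3),
 ([12,7,11],3),
 ([12,4,10],3),
 ([12,4,11],3),
 ([12,14,4,10],2),
 ([12,10,12,4],2),
 ([12,10,13,7],2),
 ([12,10,14,3],2),
 ([12,10,3,11],1),
 ([12,11,12,4],2),
 ([12,10,7,10,4],1),
 ([12,10,4,11,3],1),
 ([12,11,7,11,4],1),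
 ([12,11,7,3,11],1),
 ([12,11,3,13,11],1),
 ([12,11,3,10,3],1),
 ([12,11,3,4,10],1),
 ([12,11,4,3,10],1),
 ([12,7,13,11,3],1),
 ([12,7,10,3,11],1),
 ([12,3,10,4,11],1),
 ([12,3,11,3,10],1),
 ([8,14],2),
 ([8,15,7],3),
 ([8,7,14],3),
 ([8,14],5),
 ([8,14,8,15],2),
 ([8,14,8,7],2),
 ([8,14,9,14],2),
 ([8,14,9,7],2)]
 [([8,14,7,14],2),
 ([8,15,7,15],2),
 ([8,12,14,13],2),
 ([8,13,14,12],2),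
 ([8,7,15,7],2),
 ([14,12,15,13],2),
 ([14,13,7,12],2),
 ([13,10,9,10,7,13,7,11,8,11,12,10,9,10,7,12,7,11,8,11],0),
 ([8,9],0),
 ([10,11],0),
 ([12,13],0),
 ([14,15],0)]))))

def L : List ℕ := [1,2,3,4,5,6,7,8,9,10,11,12,13,14,15]

end Cfsg.Lib.Comp.McX
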