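import Cfsg.Agent.Lib.Comp.McX.Base

set_option maxRecDepth 100000
set_option Elab.async false

namespace Cfsg.Lib.Comp.McX

universe u

noncomputable def ResB1_R : List (List ℕ × ℕ) := (apd [([1],1),
 ([2],1),
 ([3],1),
 ([4],1),
 ([5],1),
 ([6],1),
 ([7],1),
 ([1,2],1),
 ([1,3],1),
 ([1,4],1),
 ([1,5],1),
 ([1,6],1),
 ([1,7],1),
 ([2,3],1),
 ([2,4],1),
 ([2,5],1),
 ([2,6],1),
 ([2,7,2,7,1],0),
 ([3,4],1),
 ([3,5,3,5,1],0),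
 ([3,6,3,6,2],0),
 ([3,7,3,7,1],0),
 ([4,5,4,5,2,1],0),
 ([4,6,4,6,1],0),
 ([4,7,4,7,3,2,1],0),
 ([5,6],1),
 ([5,7],1),
 ([6,7,6,7,5],0),
 ([12],2),
 ([12,1,13,1],0),
 ([12,2,13,5],0),
 ([12,3,13,5,7],0),
 ([12,5,13,1,2,5],0),
 ([12,6,13,6],0),
 ([12,7,13,2,7,3],0),
 ([4,12],1),
 ([14],2),
 ([7,14],1),
 ([14,1,15,1],0),
 ([14,2,15,2],0)]
 [([14,3,15,1,4],0),
 ([14,4,15,2,3,4],0),
 ([14,5,15,6],0),
 ([14,6,15,5,6],0),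
 ([4,14,13],2),
 ([14,12,15,13],2),
 ([14,13,7,12],2),
 ([12,13],0),
 ([14,15],0)])

noncomputable def ResB1_n_3 : Net :=
 (Net.cons 4 (nat_lit 0x8)
 (Net.cons 2 (nat_lit 0x30)
 (Net.cons 4 (nat_lit 0x8)
 Net.nil)))

noncomputable def ResB1_n_4 : Net :=
 (Net.cons 4 (nat_lit 0x8)
 (Net.cons 1 (nat_lit 0x50)
 (Net.cons 2 (nat_lit 0x30)
 (Net.cons 4 (nat_lit 0x8)
 Net.nil))))

noncomputable def ResB1_n_7 : Net :=
 (Net.cons 4 (nat_lit 0x8)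
 (Net.cons 2 (nat_lit 0x2)
 (Net.cons 1 (nat_lit 0x4)
 (Net.cons 2 (nat_lit 0x22)
 (Net.cons 4 (nat_lit 0x8)
 Net.nil)))))

noncomputable def ResB1_n_12 : Net :=
 (Net.cons 4 (nat_lit 0xa)
 (Net.cons 2 (nat_lit 0x22)
 (Net.cons 1 (nat_lit 0x14)
 (Net.cons 2 (nat_lit 0x2)
 (Net.cons 4 (nat_lit 0xe)
 Net.nil)))))

noncomputable def ResB1_n_14 : Net :=
 (Net.cons 4 (nat_lit 0x8)
 (Net.cons 1 (nat_lit 0x11)
 (Net.cons 2 (nat_lit 0x21)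
 (Net.cons 4 (nat_lit 0x8)
 Net.nil))))

noncomputable def ResB1_n : List Net := [Net.nil,
 Net.nil,
 Net.nil,
 ResB1_n_3,
 ResB1_n_4,
 Net.nil,
 Net.nil,
 ResB1_n_7,
 Net.nil,
 Net.nil,
 Net.nil,
 Net.nil,
 ResB1_n_12,
 Net.rev ResB1_n_12,
 ResB1_n_14,
 Net.rev ResB1_n_14]

theorem ResB1_n_ok : NetsOK 8 ResB1_n := netsOK_of (by decide +kernel)

theorem ResB1_n_rel : Rels (gp ResB1_n) ResB1_R := rels_of_relsB (k := 3) ResB1_n_ok (by norm_num) (by decide +kernel)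

theorem ResB1_fin : finB 8 ResB1_n [1,2,3,4,5,6,7,12,13,14,15] 7 (runH 8 ResB1_n (fun x p => ptInv (nth Net.nil ResB1_n x) p) iv ResB1_R [] ([1,2,3,4,5,6,7,12,13].map fun x => [x]) 0 []
  [1,5,9,13,17,21,25,29,33,188,192,112,144,148,152,156,160,164,168,172,188,192,24,116,120,124,128,132,136,140,12,176,192,160,164]
  (defsH 8 ResB1_n (ones 128) [14,15,12,13] (Nat.shiftLeft 1 0) 0)) = true := by decide +kernel

theorem ResB1_idx : Idx.{u} iv (ResB1_R ++ []) ([1,2,3,4,5,6,7,12,13].map fun x => [x]) [1,2,3,4,5,6,7,12,13,14,15] 7 :=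
  Reach.idx ResB1_n_ok (reach_runH ResB1_n_ok (fun x p _ => ptInv_gp ResB1_n_ok x p) ResB1_n_rel (reach_defsH ResB1_n_ok _ _ _ _ _ _) _ _) ResB1_fin (by norm_num)

end Cfsg.Lib.Comp.McX
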