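import Cfsg.Agent.Lib.Comp.McX.Main
import Cfsg.Agent.Lib.Comp.Cover
import Cfsg.Agent.Lib.Comp.McX.ResA0
import Cfsg.Agent.Lib.Comp.McX.ResA1
import Cfsg.Agent.Lib.Comp.McX.ResB0
import Cfsg.Agent.Lib.Comp.McX.ResB1
import Cfsg.Agent.Lib.Comp.McX.ResB2

set_option maxRecDepth 100000
set_option Elab.async false

namespace Cfsg.Lib.Comp.McX

universe u

noncomputable def RH : List (List ℕ × ℕ) := (apd [([1],1),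
 ([2],1),
 ([3],1),
 ([4],1),
 ([5],1),
 ([6],1),
 ([7],1),
 ([1,2],1),
 ([1,3],1),
 ([1,4],1),
 ([1,5],1),
 ([1,6],1),
 ([1,7],1),
 ([2,3],1),
 ([2,4],1),
 ([2,5],1),
 ([2,6],1),
 ([2,7,2,7,1],0),
 ([3,4],1),
 ([3,5,3,5,1],0),
 ([3,6,3,6,2],0),
 ([3,7,3,7,1],0),
 ([4,5,4,5,2,1],0),
 ([4,6,4,6,1],0),
 ([4,7,4,7,3,2,1],0),
 ([5,6],1),
 ([5,7],1),
 ([6,7,6,7,5],0),
 ([8],2),
 ([8,1,9,1],0),
 ([8,2,9,2,3],0),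
 ([8,3,9,2],0),
 ([8,4,9,4],0),
 ([8,5,9,7],0),
 ([8,7,9,5,7],0),
 ([6,8],1),
 ([12],2),
 ([12,1,13,1],0),
 ([12,2,13,5],0),
 ([12,3,13,5,7],0)]
 [([12,5,13,1,2,5],0),
 ([12,6,13,6],0),
 ([12,7,13,2,7,3],0),
 ([4,12],1),
 ([8,12,9,13],0),
 ([14],2),
 ([7,14],1),
 ([14,1,15,1],0),
 ([14,2,15,2],0),
 ([14,3,15,1,4],0),
 ([14,4,15,2,3,4],0),
 ([14,5,15,6],0),
 ([14,6,15,5,6],0),
 ([14,8],2),
 ([4,14,13],2),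
 ([8,14],2),
 ([8,15,7],3),
 ([8,7,14],3),
 ([8,14],5),
 ([8,14,8,15],2),
 ([8,14,8,7],2),
 ([8,14,9,14],2),
 ([8,14,9,7],2),
 ([8,14,7,14],2),
 ([8,15,7,15],2),
 ([8,12,14,13],2),
 ([8,13,14,12],2),
 ([8,7,15,7],2),
 ([14,12,15,13],2),
 ([14,13,7,12],2),
 ([8,9],0),
 ([12,13],0),
 ([14,15],0)])

noncomputable def RM : List (List ℕ × ℕ) := [([10],2),
 ([7,10],1),
 ([10,1,11,2],0),
 ([10,2,11,1,2],0),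
 ([10,3,11,4],0),
 ([10,4,11,3,4],0),
 ([10,5,11,5,6],0),
 ([10,6,11,5],0),
 ([14,10,15,11],0),
 ([8,11],4),
 ([8,10],7),
 ([12,11],7),
 ([12,10],4),
 ([10,11],0)]

noncomputable def RX : List (List ℕ × ℕ) := (apd [([1],1),
 ([2],1),
 ([3],1),
 ([4],1),
 ([5],1),
 ([6],1),
 ([7],1),
 ([1,2],1),
 ([1,3],1),
 ([1,4],1),
 ([1,5],1),
 ([1,6],1),
 ([1,7],1),
 ([2,3],1),
 ([2,4],1),
 ([2,5],1),
 ([2,6],1),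
 ([2,7,2,7,1],0),
 ([3,4],1),
 ([3,5,3,5,1],0),
 ([3,6,3,6,2],0),
 ([3,7,3,7,1],0),
 ([4,5,4,5,2,1],0),
 ([4,6,4,6,1],0),
 ([4,7,4,7,3,2,1],0),
 ([5,6],1),
 ([5,7],1),
 ([6,7,6,7,5],0),
 ([8],2),
 ([8,1,9,1],0),
 ([8,2,9,2,3],0),
 ([8,3,9,2],0),
 ([8,4,9,4],0),
 ([8,5,9,7],0),
 ([8,7,9,5,7],0),
 ([6,8],1),
 ([12],2),
 ([12,1,13,1],0),
 ([12,2,13,5],0),
 ([12,3,13,5,7],0)]
 (apd [([12,5,13,1,2,5],0),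
 ([12,6,13,6],0),
 ([12,7,13,2,7,3],0),
 ([4,12],1),
 ([8,12,9,13],0),
 ([14],2),
 ([7,14],1),
 ([14,1,15,1],0),
 ([14,2,15,2],0),
 ([14,3,15,1,4],0),
 ([14,4,15,2,3,4],0),
 ([14,5,15,6],0),
 ([14,6,15,5,6],0),
 ([14,8],2),
 ([4,14,13],2),
 ([10],2),
 ([7,10],1),
 ([10,1,11,2],0),
 ([10,2,11,1,2],0),
 ([10,3,11,4],0),
 ([10,4,11,3,4],0),
 ([10,5,11,5,6],0),
 ([10,6,11,5],0),
 ([14,10,15,11],0),
 ([8,11],4),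
 ([8,10],7),
 ([12,11],7),
 ([12,10],4),
 ([8,10],3),
 ([8,10,15],3),
 ([8,11,7],3),
 ([8,11,5],3),
 ([8,7,10],3),
 ([8,5,11],3),
 ([8,6,10],3),
 ([8,6,11],3),
 ([8,14,7,10],2),
 ([8,15,5,10],2),
 ([8,10,8,6],2),
 ([8,10,9,7],2)]
 (apd [([8,10,15,6],2),
 ([8,10,7,10],2),
 ([8,10,5,15],2),
 ([8,10,6,11],2),
 ([8,11,8,6],2),
 ([8,11,14,7],2),
 ([8,11,14,6],2),
 ([8,11,7,15],2),
 ([8,11,7,11],2),
 ([8,11,5,10],1),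
 ([8,7,10,15],2),
 ([8,5,9,10],1),
 ([8,5,11,14],2),
 ([8,10,8,11,5],1),
 ([8,10,8,5,6],1),
 ([8,10,8,6,11],1),
 ([8,10,8,6,5],1),
 ([8,10,9,10,14],1),
 ([8,10,9,11,7],1),
 ([8,10,9,7,10],1),
 ([8,10,9,7,5],1),
 ([8,10,9,5,7],1),
 ([8,10,7,8,6],1),
 ([8,10,7,10,6],1),
 ([8,10,7,5,10],1),
 ([8,10,5,9,10],1),
 ([8,10,5,9,5],1),
 ([8,10,5,11,7],1),
 ([8,10,5,11,5],1),
 ([8,10,5,7,10],1),
 ([8,10,5,6,11],1),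
 ([8,10,6,9,11],1),
 ([8,10,6,9,5],1),
 ([8,10,6,5,11],1),
 ([8,11,8,7,6],1),
 ([8,11,7,11,6],1),
 ([8,11,5,9,10],1),
 ([8,11,5,9,5],1),
 ([8,11,6,10,7],1),
 ([8,11,6,10,5],1)]
 (apd [([8,11,6,7,11],1),
 ([8,7,9,10,5],1),
 ([8,7,9,10,6],1),
 ([8,7,9,11,5],1),
 ([8,7,11,8,6],1),
 ([8,7,11,5,10],1),
 ([8,5,9,11,6],1),
 ([8,5,10,5,11],1),
 ([8,5,11,6,10],1),
 ([12,10,7],3),
 ([12,10,3],3),
 ([12,7,11],3),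
 ([12,4,10],3),
 ([12,4,11],3),
 ([12,14,4,10],2),
 ([12,10,12,4],2),
 ([12,10,13,7],2),
 ([12,10,14,3],2),
 ([12,10,3,11],1),
 ([12,11,12,4],2),
 ([12,10,7,10,4],1),
 ([12,10,4,11,3],1),
 ([12,11,7,11,4],1),
 ([12,11,7,3,11],1),
 ([12,11,3,13,11],1),
 ([12,11,3,10,3],1),
 ([12,11,3,4,10],1),
 ([12,11,4,3,10],1),
 ([12,7,13,11,3],1),
 ([12,7,10,3,11],1),
 ([12,3,10,4,11],1),
 ([12,3,11,3,10],1),
 ([8,14],2),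
 ([8,15,7],3),
 ([8,7,14],3),
 ([8,14],5),
 ([8,14,8,15],2),
 ([8,14,8,7],2),
 ([8,14,9,14],2),
 ([8,14,9,7],2)]
 [([8,14,7,14],2),
 ([8,15,7,15],2),
 ([8,12,14,13],2),
 ([8,13,14,12],2),
 ([8,7,15,7],2),
 ([14,12,15,13],2),
 ([14,13,7,12],2),
 ([8,9],0),
 ([10,11],0),
 ([12,13],0),
 ([14,15],0)]))))

theorem ResA1_ord : Ord.{u} iv (RH ++ RM) [1,2,3,4,5,6,7,8,9,14,15] 2688 :=
  (ResA1_idx.ord_step T3_ord).of_cons (cons_of_subset (by decide +kernel))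

theorem ResA0_ord : Ord.{u} iv (RH ++ RM) [1,2,3,4,5,6,7,8,9,10,11,14,15] 40320 :=
  (ResA0_idx.ord_step ResA1_ord).of_cons (cons_of_subset (by decide +kernel))

theorem ResB2_ord : Ord.{u} iv (RH ++ RM) [1,2,3,4,5,6,7,12,13] 384 :=
  (ResB2_idx.ord_step T4_ord).of_cons (cons_of_subset (by decide +kernel))

theorem ResB1_ord : Ord.{u} iv (RH ++ RM) [1,2,3,4,5,6,7,12,13,14,15] 2688 :=
  (ResB1_idx.ord_step ResB2_ord).of_cons (cons_of_subset (by decide +kernel))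

theorem ResB0_ord : Ord.{u} iv (RH ++ RM) [1,2,3,4,5,6,7,10,11,12,13,14,15] 40320 :=
  (ResB0_idx.ord_step ResB1_ord).of_cons (cons_of_subset (by decide +kernel))

noncomputable def lbA_n_1 : Net :=
 (Net.cons 8 (nat_lit 0xf8)
 (Net.cons 4 (nat_lit 0x800)
 (Net.cons 2 (nat_lit 0x2200)
 (Net.cons 1 (nat_lit 0x4155)
 (Net.cons 2 (nat_lit 0x1100)
 (Net.cons 4 (nat_lit 0x70c)
 (Net.cons 8 (nat_lit 0xf8)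
 Net.nil)))))))

noncomputable def lbA_n_2 : Net :=
 (Net.cons 8 (nat_lit 0x4)
 (Net.cons 4 (nat_lit 0xa00)
 (Net.cons 1 (nat_lit 0x104)
 (Net.cons 2 (nat_lit 0x303)
 (Net.cons 4 (nat_lit 0xa)
 (Net.cons 8 (nat_lit 0xfb)
 Net.nil))))))

noncomputable def lbA_n_3 : Net :=
 (Net.cons 8 (nat_lit 0x8)
 (Net.cons 4 (nat_lit 0x8)
 (Net.cons 2 (nat_lit 0x2)
 (Net.cons 1 (nat_lit 0x401)
 (Net.cons 2 (nat_lit 0x3133)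
 (Net.cons 4 (nat_lit 0x800)
 (Net.cons 8 (nat_lit 0xa7)
 Net.nil)))))))

noncomputable def lbA_n_4 : Net :=
 (Net.cons 8 (nat_lit 0xa4)
 (Net.cons 4 (nat_lit 0xc)
 (Net.cons 2 (nat_lit 0x2)
 (Net.cons 1 (nat_lit 0x44)
 (Net.cons 2 (nat_lit 0x3320)
 (Net.cons 4 (nat_lit 0xf03)
 (Net.cons 8 (nat_lit 0xa4)
 Net.nil)))))))

noncomputable def lbA_n_5 : Net :=
 (Net.cons 8 (nat_lit 0x60)
 (Net.cons 4 (nat_lit 0x800)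
 (Net.cons 2 (nat_lit 0x200)
 (Net.cons 1 (nat_lit 0x4145)
 (Net.cons 2 (nat_lit 0x203)
 (Net.cons 4 (nat_lit 0x208)
 (Net.cons 8 (nat_lit 0xa9)
 Net.nil)))))))

noncomputable def lbA_n_6 : Net :=
 (Net.cons 8 (nat_lit 0x80)
 (Net.cons 4 (nat_lit 0x8)
 (Net.cons 1 (nat_lit 0x105)
 (Net.cons 2 (nat_lit 0x20)
 (Net.cons 4 (nat_lit 0x808)
 (Net.cons 8 (nat_lit 0xc0)
 Net.nil))))))

noncomputable def lbA_n_7 : Net :=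
 (Net.cons 8 (nat_lit 0xc2)
 (Net.cons 4 (nat_lit 0x2)
 (Net.cons 1 (nat_lit 0x5105)
 (Net.cons 2 (nat_lit 0x20)
 (Net.cons 4 (nat_lit 0x2)
 (Net.cons 8 (nat_lit 0xc2)
 Net.nil))))))

noncomputable def lbA_n_8 : Net :=
 (Net.cons 8 (nat_lit 0xc)
 (Net.cons 4 (nat_lit 0x8)
 (Net.cons 1 (nat_lit 0x400)
 (Net.cons 2 (nat_lit 0x3120)
 (Net.cons 4 (nat_lit 0x200)
 (Net.cons 8 (nat_lit 0xec)
 Net.nil))))))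

noncomputable def lbA_n_10 : Net :=
 (Net.cons 8 (nat_lit 0x40)
 (Net.cons 4 (nat_lit 0xe04)
 (Net.cons 2 (nat_lit 0x20)
 (Net.cons 1 (nat_lit 0x4544)
 (Net.cons 2 (nat_lit 0x3003)
 (Net.cons 4 (nat_lit 0x504)
 (Net.cons 8 (nat_lit 0xa)
 Net.nil)))))))

noncomputable def lbA_n_14 : Net :=
 (Net.cons 4 (nat_lit 0xc0c)
 (Net.cons 1 (nat_lit 0x445)
 (Net.cons 2 (nat_lit 0x203)
 (Net.cons 4 (nat_lit 0xc0e)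
 (Net.cons 8 (nat_lit 0x9)
 Net.nil)))))

noncomputable def lbA_n_64 : Net :=
 (Net.cons 8 (nat_lit 0x66)
 (Net.cons 4 (nat_lit 0x80a)
 (Net.cons 1 (nat_lit 0x4450)
 (Net.cons 2 (nat_lit 0x1222)
 (Net.cons 4 (nat_lit 0x906)
 (Net.cons 8 (nat_lit 0x5e)
 Net.nil))))))

noncomputable def lbA_n_66 : Net :=
 (Net.cons 8 (nat_lit 0x34)
 (Net.cons 4 (nat_lit 0xc)
 (Net.cons 2 (nat_lit 0x2000)
 (Net.cons 1 (nat_lit 0x4550)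
 (Net.cons 2 (nat_lit 0x2330)
 (Net.cons 4 (nat_lit 0x904)
 (Net.cons 8 (nat_lit 0xc8)
 Net.nil)))))))

noncomputable def lbA_n_68 : Net :=
 (Net.cons 8 (nat_lit 0x32)
 (Net.cons 4 (nat_lit 0xc06)
 (Net.cons 2 (nat_lit 0x2)
 (Net.cons 1 (nat_lit 0x1014)
 (Net.cons 2 (nat_lit 0x2120)
 (Net.cons 4 (nat_lit 0x806)
 (Net.cons 8 (nat_lit 0x32)
 Net.nil)))))))

noncomputable def lbA_n_70 : Net :=
 (Net.cons 8 (nat_lit 0x14)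
 (Net.cons 4 (nat_lit 0x402)
 (Net.cons 2 (nat_lit 0x20)
 (Net.cons 1 (nat_lit 0x14)
 (Net.cons 2 (nat_lit 0x332)
 (Net.cons 4 (nat_lit 0x70e)
 (Net.cons 8 (nat_lit 0x44)
 Net.nil)))))))

noncomputable def lbA_n : List Net := (apd [Net.nil,
 lbA_n_1,
 lbA_n_2,
 lbA_n_3,
 lbA_n_4,
 lbA_n_5,
 lbA_n_6,
 lbA_n_7,
 lbA_n_8,
 Net.rev lbA_n_8,
 lbA_n_10,
 Net.rev lbA_n_10,
 Net.nil,
 Net.nil,
 lbA_n_14,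
 Net.rev lbA_n_14,
 Net.nil,
 Net.nil,
 Net.nil,
 Net.nil,
 Net.nil,
 Net.nil,
 Net.nil,
 Net.nil,
 Net.nil,
 Net.nil,
 Net.nil,
 Net.nil,
 Net.nil,
 Net.nil,
 Net.nil,
 Net.nil,
 Net.nil,
 Net.nil,
 Net.nil,
 Net.nil,
 Net.nil,
 Net.nil,
 Net.nil,
 Net.nil]
 [Net.nil,
 Net.nil,
 Net.nil,
 Net.nil,
 Net.nil,
 Net.nil,
 Net.nil,
 Net.nil,
 Net.nil,
 Net.nil,
 Net.nil,
 Net.nil,
 Net.nil,
 Net.nil,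
 Net.nil,
 Net.nil,
 Net.nil,
 Net.nil,
 Net.nil,
 Net.nil,
 Net.nil,
 Net.nil,
 Net.nil,
 Net.nil,
 lbA_n_64,
 Net.rev lbA_n_64,
 lbA_n_66,
 Net.rev lbA_n_66,
 lbA_n_68,
 Net.rev lbA_n_68,
 lbA_n_70,
 Net.rev lbA_n_70])

theorem lbA_n_ok : NetsOK 16 lbA_n := netsOK_of (by decide +kernel)

theorem lbA : 40320 ≤ Nat.card (cl (gp nets) [1,2,3,4,5,6,7,8,9,10,11,14,15]) :=
  lb_of_itwB (k := 4) (n := 16) nets_ok lbA_n_ok (by norm_num) (by norm_num) (tbA_pt nets_ok) (tbA_pt lbA_n_ok) (φ := look2 (nat_lit 0xb20010d000d3000ee000a7000b1000b50010b000d8000cb000ba000bd000ad0010c000a8000a3) 20 64) (by decide +kernel) (by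
    rw [← cl_eq_of_slpB (k := 4) (D := [(64,[5,10,4,14]),
 (65,[15,4,11,5]),
 (66,[64,8,65,8,65,9,65]),
 (67,[64,8,64,9,64,9,65]),
 (68,[8,66,66,8]),
 (69,[9,67,67,9]),
 (70,[66,66,8,67,67]),
 (71,[66,66,9,67,67])]) lbA_n_ok (by norm_num) (by decide +kernel)]
    exact lb_of_chainB lbA_n_ok (C := [([8,9,64,65,66,67,68,69,70,71],[1,2,3,4],0,0,16),
 ([8,9,66,67,68,69,70,71],[64,8,64,66,68,64],1,1,15),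
 ([68,69,70,71],[8,66,68,70,66],2,2,14),
 ([],[68,70,68,68,70],3,3,12)]) (by decide +kernel))

noncomputable def lbB_n_1 : Net :=
 (Net.cons 8 (nat_lit 0x42)
 (Net.cons 4 (nat_lit 0x608)
 (Net.cons 2 (nat_lit 0x200)
 (Net.cons 1 (nat_lit 0x5145)
 (Net.cons 2 (nat_lit 0x310)
 (Net.cons 4 (nat_lit 0x709)
 (Net.cons 8 (nat_lit 0xbd)
 Net.nil)))))))

noncomputable def lbB_n_2 : Net :=
 (Net.cons 8 (nat_lit 0x22)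
 (Net.cons 4 (nat_lit 0xc0a)
 (Net.cons 2 (nat_lit 0x2020)
 (Net.cons 1 (nat_lit 0x4040)
 (Net.cons 2 (nat_lit 0x2323)
 (Net.cons 4 (nat_lit 0xc0a)
 (Net.cons 8 (nat_lit 0x3a)
 Net.nil)))))))

noncomputable def lbB_n_3 : Net :=
 (Net.cons 8 (nat_lit 0x80)
 (Net.cons 4 (nat_lit 0x608)
 (Net.cons 1 (nat_lit 0x1005)
 (Net.cons 2 (nat_lit 0x113)
 (Net.cons 4 (nat_lit 0x608)
 (Net.cons 8 (nat_lit 0x88)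
 Net.nil))))))

noncomputable def lbB_n_4 : Net :=
 (Net.cons 8 (nat_lit 0x72)
 (Net.cons 4 (nat_lit 0x20a)
 (Net.cons 1 (nat_lit 0x550)
 (Net.cons 2 (nat_lit 0x1302)
 (Net.cons 4 (nat_lit 0x20a)
 (Net.cons 8 (nat_lit 0x72)
 Net.nil))))))

noncomputable def lbB_n_5 : Net :=
 (Net.cons 8 (nat_lit 0x5c)
 (Net.cons 4 (nat_lit 0xa0a)
 (Net.cons 2 (nat_lit 0x2002)
 (Net.cons 1 (nat_lit 0x1551)
 (Net.cons 2 (nat_lit 0x2002)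
 (Net.cons 4 (nat_lit 0x505)
 (Net.cons 8 (nat_lit 0xa3)
 Net.nil)))))))

noncomputable def lbB_n_6 : Net :=
 (Net.cons 8 (nat_lit 0xf4)
 (Net.cons 4 (nat_lit 0x4)
 (Net.cons 2 (nat_lit 0x2002)
 (Net.cons 1 (nat_lit 0x4004)
 (Net.cons 2 (nat_lit 0x2332)
 (Net.cons 4 (nat_lit 0xb0f)
 (Net.cons 8 (nat_lit 0xb)
 Net.nil)))))))

noncomputable def lbB_n_7 : Net :=
 (Net.cons 8 (nat_lit 0x38)
 (Net.cons 4 (nat_lit 0x400)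
 (Net.cons 2 (nat_lit 0x200)
 (Net.cons 1 (nat_lit 0x151)
 (Net.cons 2 (nat_lit 0x1200)
 (Net.cons 4 (nat_lit 0x600)
 (Net.cons 8 (nat_lit 0x38)
 Net.nil)))))))

noncomputable def lbB_n_10 : Net :=
 (Net.cons 8 (nat_lit 0x1c)
 (Net.cons 4 (nat_lit 0x402)
 (Net.cons 2 (nat_lit 0x200)
 (Net.cons 1 (nat_lit 0x5101)
 (Net.cons 2 (nat_lit 0x2331)
 (Net.cons 4 (nat_lit 0x407)
 (Net.cons 8 (nat_lit 0xa)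
 Net.nil)))))))

noncomputable def lbB_n_12 : Net :=
 (Net.cons 8 (nat_lit 0x50)
 (Net.cons 4 (nat_lit 0x404)
 (Net.cons 2 (nat_lit 0x2220)
 (Net.cons 1 (nat_lit 0x4114)
 (Net.cons 2 (nat_lit 0x2200)
 (Net.cons 4 (nat_lit 0xe00)
 (Net.cons 8 (nat_lit 0x50)
 Net.nil)))))))

noncomputable def lbB_n_14 : Net :=
 (Net.cons 8 (nat_lit 0x14)
 (Net.cons 4 (nat_lit 0x400)
 (Net.cons 2 (nat_lit 0x22)
 (Net.cons 1 (nat_lit 0x1014)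
 (Net.cons 2 (nat_lit 0x3002)
 (Net.cons 4 (nat_lit 0x605)
 (Net.cons 8 (nat_lit 0xa4)
 Net.nil)))))))

noncomputable def lbB_n_64 : Net :=
 (Net.cons 8 (nat_lit 0x68)
 (Net.cons 4 (nat_lit 0x600)
 (Net.cons 1 (nat_lit 0x4154)
 (Net.cons 2 (nat_lit 0x2032)
 (Net.cons 4 (nat_lit 0xf08)
 (Net.cons 8 (nat_lit 0xa4)
 Net.nil))))))

noncomputable def lbB_n_66 : Net :=
 (Net.cons 8 (nat_lit 0x68)
 (Net.cons 4 (nat_lit 0x4)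
 (Net.cons 2 (nat_lit 0x2000)
 (Net.cons 1 (nat_lit 0x4540)
 (Net.cons 2 (nat_lit 0x1230)
 (Net.cons 4 (nat_lit 0x908)
 (Net.cons 8 (nat_lit 0xf0)
 Net.nil)))))))

noncomputable def lbB_n_68 : Net :=
 (Net.cons 8 (nat_lit 0xf8)
 (Net.cons 4 (nat_lit 0x808)
 (Net.cons 2 (nat_lit 0x2020)
 (Net.cons 1 (nat_lit 0x4010)
 (Net.cons 2 (nat_lit 0x1010)
 (Net.cons 4 (nat_lit 0x708)
 (Net.cons 8 (nat_lit 0x80)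
 Net.nil)))))))

noncomputable def lbB_n : List Net := (apd [Net.nil,
 lbB_n_1,
 lbB_n_2,
 lbB_n_3,
 lbB_n_4,
 lbB_n_5,
 lbB_n_6,
 lbB_n_7,
 Net.nil,
 Net.nil,
 lbB_n_10,
 Net.rev lbB_n_10,
 lbB_n_12,
 Net.rev lbB_n_12,
 lbB_n_14,
 Net.rev lbB_n_14,
 Net.nil,
 Net.nil,
 Net.nil,
 Net.nil,
 Net.nil,
 Net.nil,
 Net.nil,
 Net.nil,
 Net.nil,
 Net.nil,
 Net.nil,
 Net.nil,
 Net.nil,
 Net.nil,
 Net.nil,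
 Net.nil,
 Net.nil,
 Net.nil,
 Net.nil,
 Net.nil,
 Net.nil,
 Net.nil,
 Net.nil,
 Net.nil]
 [Net.nil,
 Net.nil,
 Net.nil,
 Net.nil,
 Net.nil,
 Net.nil,
 Net.nil,
 Net.nil,
 Net.nil,
 Net.nil,
 Net.nil,
 Net.nil,
 Net.nil,
 Net.nil,
 Net.nil,
 Net.nil,
 Net.nil,
 Net.nil,
 Net.nil,
 Net.nil,
 Net.nil,
 Net.nil,
 Net.nil,
 Net.nil,
 lbB_n_64,
 Net.rev lbB_n_64,
 lbB_n_66,
 Net.rev lbB_n_66,
 lbB_n_68,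
 Net.rev lbB_n_68])

theorem lbB_n_ok : NetsOK 16 lbB_n := netsOK_of (by decide +kernel)

theorem lbB : 40320 ≤ Nat.card (cl (gp nets) [1,2,3,4,5,6,7,10,11,12,13,14,15]) :=
  lb_of_itwB (k := 4) (n := 16) nets_ok lbB_n_ok (by norm_num) (by norm_num) (tbA_pt nets_ok) (tbA_pt lbB_n_ok) (φ := look2 (nat_lit 0xc6000e9000aa00103000f8001110010800104000b3000ab000fd000b900110000f2000fb000a6) 20 64) (by decide +kernel) (by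
    rw [← cl_eq_of_slpB (k := 4) (D := [(64,[1,15,10,6]),
 (65,[6,11,14,1]),
 (66,[65,12,64,13,64,13,65]),
 (67,[64,12,65,12,65,13,64]),
 (68,[13,67,67]),
 (69,[66,66,12])]) lbB_n_ok (by norm_num) (by decide +kernel)]
    exact lb_of_chainB lbB_n_ok (C := [([4,12,13,64,65,66,67,68,69],[1,2,5,6],0,0,16),
 ([4,12,13,66,67,68,69],[64,12,64,66,4,12],1,1,15),
 ([4,68,69],[12,66,68,4,66,4],2,2,14),
 ([],[4,68,4,68,68],3,3,12)]) (by decide +kernel))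

noncomputable def RA : List (List ℕ × ℕ) := (apd [([1],1),
 ([2],1),
 ([3],1),
 ([4],1),
 ([5],1),
 ([6],1),
 ([7],1),
 ([1,2],1),
 ([1,3],1),
 ([1,4],1),
 ([1,5],1),
 ([1,6],1),
 ([1,7],1),
 ([2,3],1),
 ([2,4],1),
 ([2,5],1),
 ([2,6],1),
 ([2,7,2,7,1],0),
 ([3,4],1),
 ([3,5,3,5,1],0),
 ([3,6,3,6,2],0),
 ([3,7,3,7,1],0),
 ([4,5,4,5,2,1],0),
 ([4,6,4,6,1],0),
 ([4,7,4,7,3,2,1],0),
 ([5,6],1),
 ([5,7],1),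
 ([6,7,6,7,5],0),
 ([8],2),
 ([8,1,9,1],0),
 ([8,2,9,2,3],0),
 ([8,3,9,2],0),
 ([8,4,9,4],0),
 ([8,5,9,7],0),
 ([8,7,9,5,7],0),
 ([6,8],1),
 ([14],2),
 ([7,14],1),
 ([14,1,15,1],0),
 ([14,2,15,2],0)]
 (apd [([14,3,15,1,4],0),
 ([14,4,15,2,3,4],0),
 ([14,5,15,6],0),
 ([14,6,15,5,6],0),
 ([14,8],2),
 ([10],2),
 ([7,10],1),
 ([10,1,11,2],0),
 ([10,2,11,1,2],0),
 ([10,3,11,4],0),
 ([10,4,11,3,4],0),
 ([10,5,11,5,6],0),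
 ([10,6,11,5],0),
 ([14,10,15,11],0),
 ([8,11],4),
 ([8,10],7),
 ([8,10],3),
 ([8,10,15],3),
 ([8,11,7],3),
 ([8,11,5],3),
 ([8,7,10],3),
 ([8,5,11],3),
 ([8,6,10],3),
 ([8,6,11],3),
 ([8,14,7,10],2),
 ([8,15,5,10],2),
 ([8,10,8,6],2),
 ([8,10,9,7],2),
 ([8,10,15,6],2),
 ([8,10,7,10],2),
 ([8,10,5,15],2),
 ([8,10,6,11],2),
 ([8,11,8,6],2),
 ([8,11,14,7],2),
 ([8,11,14,6],2),
 ([8,11,7,15],2),
 ([8,11,7,11],2),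
 ([8,11,5,10],1),
 ([8,7,10,15],2),
 ([8,5,9,10],1)]
 (apd [([8,5,11,14],2),
 ([8,10,8,11,5],1),
 ([8,10,8,5,6],1),
 ([8,10,8,6,11],1),
 ([8,10,8,6,5],1),
 ([8,10,9,10,14],1),
 ([8,10,9,11,7],1),
 ([8,10,9,7,10],1),
 ([8,10,9,7,5],1),
 ([8,10,9,5,7],1),
 ([8,10,7,8,6],1),
 ([8,10,7,10,6],1),
 ([8,10,7,5,10],1),
 ([8,10,5,9,10],1),
 ([8,10,5,9,5],1),
 ([8,10,5,11,7],1),
 ([8,10,5,11,5],1),
 ([8,10,5,7,10],1),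
 ([8,10,5,6,11],1),
 ([8,10,6,9,11],1),
 ([8,10,6,9,5],1),
 ([8,10,6,5,11],1),
 ([8,11,8,7,6],1),
 ([8,11,7,11,6],1),
 ([8,11,5,9,10],1),
 ([8,11,5,9,5],1),
 ([8,11,6,10,7],1),
 ([8,11,6,10,5],1),
 ([8,11,6,7,11],1),
 ([8,7,9,10,5],1),
 ([8,7,9,10,6],1),
 ([8,7,9,11,5],1),
 ([8,7,11,8,6],1),
 ([8,7,11,5,10],1),
 ([8,5,9,11,6],1),
 ([8,5,10,5,11],1),
 ([8,5,11,6,10],1),
 ([8,14],2),
 ([8,15,7],3),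
 ([8,7,14],3)]
 [([8,14],5),
 ([8,14,8,15],2),
 ([8,14,8,7],2),
 ([8,14,9,14],2),
 ([8,14,9,7],2),
 ([8,14,7,14],2),
 ([8,15,7,15],2),
 ([8,7,15,7],2),
 ([8,9],0),
 ([10,11],0),
 ([14,15],0)])))

noncomputable def RB : List (List ℕ × ℕ) := (apd [([1],1),
 ([2],1),
 ([3],1),
 ([4],1),
 ([5],1),
 ([6],1),
 ([7],1),
 ([1,2],1),
 ([1,3],1),
 ([1,4],1),
 ([1,5],1),
 ([1,6],1),
 ([1,7],1),
 ([2,3],1),
 ([2,4],1),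
 ([2,5],1),
 ([2,6],1),
 ([2,7,2,7,1],0),
 ([3,4],1),
 ([3,5,3,5,1],0),
 ([3,6,3,6,2],0),
 ([3,7,3,7,1],0),
 ([4,5,4,5,2,1],0),
 ([4,6,4,6,1],0),
 ([4,7,4,7,3,2,1],0),
 ([5,6],1),
 ([5,7],1),
 ([6,7,6,7,5],0),
 ([12],2),
 ([12,1,13,1],0),
 ([12,2,13,5],0),
 ([12,3,13,5,7],0),
 ([12,5,13,1,2,5],0),
 ([12,6,13,6],0),
 ([12,7,13,2,7,3],0),
 ([4,12],1),
 ([14],2),
 ([7,14],1),
 ([14,1,15,1],0),
 ([14,2,15,2],0)]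
 (apd [([14,3,15,1,4],0),
 ([14,4,15,2,3,4],0),
 ([14,5,15,6],0),
 ([14,6,15,5,6],0),
 ([4,14,13],2),
 ([10],2),
 ([7,10],1),
 ([10,1,11,2],0),
 ([10,2,11,1,2],0),
 ([10,3,11,4],0),
 ([10,4,11,3,4],0),
 ([10,5,11,5,6],0),
 ([10,6,11,5],0),
 ([14,10,15,11],0),
 ([12,11],7),
 ([12,10],4),
 ([12,10,7],3),
 ([12,10,3],3),
 ([12,7,11],3),
 ([12,4,10],3),
 ([12,4,11],3),
 ([12,14,4,10],2),
 ([12,10,12,4],2),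
 ([12,10,13,7],2),
 ([12,10,14,3],2),
 ([12,10,3,11],1),
 ([12,11,12,4],2),
 ([12,10,7,10,4],1),
 ([12,10,4,11,3],1),
 ([12,11,7,11,4],1),
 ([12,11,7,3,11],1),
 ([12,11,3,13,11],1),
 ([12,11,3,10,3],1),
 ([12,11,3,4,10],1),
 ([12,11,4,3,10],1),
 ([12,7,13,11,3],1),
 ([12,7,10,3,11],1),
 ([12,3,10,4,11],1),
 ([12,3,11,3,10],1),
 ([14,12,15,13],2)]
 [([14,13,7,12],2),
 ([10,11],0),
 ([12,13],0),
 ([14,15],0)]))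

theorem consX : Cons.{u} iv (RH ++ RM) RX :=
  (((Cons.refl _ _).append (cons_of_ord ResA0_ord nets_iv (nets_rel.mono (by decide +kernel)) lbA (R' := RA) (nets_rel.mono (by decide +kernel))
    (sub_of_allR (by decide +kernel)))).append (cons_of_ord ResB0_ord nets_iv (nets_rel.mono (by decide +kernel)) lbB (R' := RB)
    (nets_rel.mono (by decide +kernel)) (sub_of_allR (by decide +kernel)))).trans (cons_of_subset (by decide +kernel))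

end Cfsg.Lib.Comp.McX
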