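import Cfsg.Agent.Lib.Comp.McX.Base

set_option maxRecDepth 100000
set_option Elab.async false

namespace Cfsg.Lib.Comp.McX

universe u

noncomputable def T2_R : List (List ℕ × ℕ) := (apd [([1],1),
 ([2],1),
 ([3],1),
 ([4],1),
 ([5],1),
 ([6],1),
 ([7],1),
 ([1,2],1),
 ([1,3],1),
 ([1,4],1),
 ([1,5],1),
 ([1,6],1),
 ([1,7],1),
 ([2,3],1),
 ([2,4],1),
 ([2,5],1),
 ([2,6],1),
 ([2,7,2,7,1],0),
 ([3,4],1),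
 ([3,5,3,5,1],0),
 ([3,6,3,6,2],0),
 ([3,7,3,7,1],0),
 ([4,5,4,5,2,1],0),
 ([4,6,4,6,1],0),
 ([4,7,4,7,3,2,1],0),
 ([5,6],1),
 ([5,7],1),
 ([6,7,6,7,5],0),
 ([8],2),
 ([8,1,9,1],0),
 ([8,2,9,2,3],0),
 ([8,3,9,2],0),
 ([8,4,9,4],0),
 ([8,5,9,7],0),
 ([8,7,9,5,7],0),
 ([6,8],1),
 ([10],2),
 ([7,10],1),
 ([10,1,11,2],0),
 ([10,2,11,1,2],0)]
 (apd [([10,3,11,4],0),
 ([10,4,11,3,4],0),
 ([10,5,11,5,6],0),
 ([10,6,11,5],0),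
 ([8,11],4),
 ([8,10],7),
 ([8,10],3),
 ([8,11,7],3),
 ([8,11,5],3),
 ([8,7,10],3),
 ([8,5,11],3),
 ([8,6,10],3),
 ([8,6,11],3),
 ([8,10,8,6],2),
 ([8,10,9,7],2),
 ([8,10,7,10],2),
 ([8,10,6,11],2),
 ([8,11,8,6],2),
 ([8,11,7,11],2),
 ([8,11,5,10],1),
 ([8,5,9,10],1),
 ([8,10,8,11,5],1),
 ([8,10,8,5,6],1),
 ([8,10,8,6,11],1),
 ([8,10,8,6,5],1),
 ([8,10,9,11,7],1),
 ([8,10,9,7,10],1),
 ([8,10,9,7,5],1),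
 ([8,10,9,5,7],1),
 ([8,10,7,8,6],1),
 ([8,10,7,10,6],1),
 ([8,10,7,5,10],1),
 ([8,10,5,9,10],1),
 ([8,10,5,9,5],1),
 ([8,10,5,11,7],1),
 ([8,10,5,11,5],1),
 ([8,10,5,7,10],1),
 ([8,10,5,6,11],1),
 ([8,10,6,9,11],1),
 ([8,10,6,9,5],1)]
 [([8,10,6,5,11],1),
 ([8,11,8,7,6],1),
 ([8,11,7,11,6],1),
 ([8,11,5,9,10],1),
 ([8,11,5,9,5],1),
 ([8,11,6,10,7],1),
 ([8,11,6,10,5],1),
 ([8,11,6,7,11],1),
 ([8,7,9,10,5],1),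
 ([8,7,9,10,6],1),
 ([8,7,9,11,5],1),
 ([8,7,11,8,6],1),
 ([8,7,11,5,10],1),
 ([8,5,9,11,6],1),
 ([8,5,10,5,11],1),
 ([8,5,11,6,10],1),
 ([8,9],0),
 ([10,11],0)]))

noncomputable def T2_n_5 : Net :=
 (Net.cons 8 (nat_lit 0x80)
 (Net.cons 4 (nat_lit 0x8)
 (Net.cons 2 (nat_lit 0x3330)
 (Net.cons 4 (nat_lit 0x8)
 (Net.cons 8 (nat_lit 0x80)
 Net.nil)))))

noncomputable def T2_n_6 : Net :=
 (Net.cons 8 (nat_lit 0x80)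
 (Net.cons 4 (nat_lit 0x8)
 (Net.cons 1 (nat_lit 0x50)
 (Net.cons 2 (nat_lit 0x1130)
 (Net.cons 4 (nat_lit 0xf08)
 (Net.cons 8 (nat_lit 0x80)
 Net.nil))))))

noncomputable def T2_n_7 : Net :=
 (Net.cons 8 (nat_lit 0x80)
 (Net.cons 4 (nat_lit 0x8)
 (Net.cons 2 (nat_lit 0x2)
 (Net.cons 1 (nat_lit 0x5504)
 (Net.cons 2 (nat_lit 0x3322)
 (Net.cons 4 (nat_lit 0x8)
 (Net.cons 8 (nat_lit 0x80)
 Net.nil)))))))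

noncomputable def T2_n_8 : Net :=
 (Net.cons 8 (nat_lit 0x80)
 (Net.cons 4 (nat_lit 0xa)
 (Net.cons 2 (nat_lit 0x22)
 (Net.cons 1 (nat_lit 0x4114)
 (Net.cons 2 (nat_lit 0x2202)
 (Net.cons 4 (nat_lit 0xe)
 (Net.cons 8 (nat_lit 0x80)
 Net.nil)))))))

noncomputable def T2_n_10 : Net :=
 (Net.cons 8 (nat_lit 0xd8)
 (Net.cons 4 (nat_lit 0xc08)
 (Net.cons 2 (nat_lit 0x20)
 (Net.cons 1 (nat_lit 0x1511)
 (Net.cons 2 (nat_lit 0x1301)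
 (Net.cons 4 (nat_lit 0x208)
 (Net.cons 8 (nat_lit 0x98)
 Net.nil)))))))

noncomputable def T2_n : List Net := [Net.nil,
 Net.nil,
 Net.nil,
 Net.nil,
 Net.nil,
 T2_n_5,
 T2_n_6,
 T2_n_7,
 T2_n_8,
 Net.rev T2_n_8,
 T2_n_10,
 Net.rev T2_n_10]

theorem T2_n_ok : NetsOK 16 T2_n := netsOK_of (by decide +kernel)

theorem T2_n_rel : Rels (gp T2_n) T2_R := rels_of_relsB (k := 4) T2_n_ok (by norm_num) (by decide +kernel)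

theorem T2_fin : finB 16 T2_n [1,2,3,4,5,6,7,8,9,10,11] 15 (runH 16 T2_n (fun x p => ptInv (nth Net.nil T2_n x) p) iv T2_R [] ([1,2,3,4,5,6,7,8,9].map fun x => [x]) 0 []
  (apd [1,5,9,13,17,21,25,29,33,384,388,112,144,148,152,156,160,164,168,172,184,236,240,244,248,252,256,268,272,280,284,288,300,308,312,324,332,336,340,344,348,352,364,368,376,380,384,388,16,20,24,104,108,112,116,120,124,128,132,136]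
 [152,156,160,164])
  (defsH 16 T2_n (ones 256) [10,11,8,9,10,11] (Nat.shiftLeft 1 0) 0)) = true := by decide +kernel

theorem T2_idx : Idx.{u} iv (T2_R ++ []) ([1,2,3,4,5,6,7,8,9].map fun x => [x]) [1,2,3,4,5,6,7,8,9,10,11] 15 :=
  Reach.idx T2_n_ok (reach_runH T2_n_ok (fun x p _ => ptInv_gp T2_n_ok x p) T2_n_rel (reach_defsH T2_n_ok _ _ _ _ _ _) _ _) T2_fin (by norm_num)

end Cfsg.Lib.Comp.McX
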